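import Mathlib
import Cfsg.Agent.Lib.Dickson.TwoTransv

/-!
Two quadratic elements `1 + A`, `1 + B` in odd characteristic generate a `p`-group or a group
containing a central involution `1 + (A B + B A) r`.
-/

set_option autoImplicit false

namespace CfsgLib.QuadPair

open Polynomial CfsgLib.Dickson
open scoped MatrixGroups

variable {R G : Type*} [Ring R] [Group G] {ρ : G →* R} {A B : R}

theorem comm_z_left (hA : A * A = 0) : Commute (A * B + B * A) A := by
  change _ = _
  rw [add_mul, mul_add, mul_assoc B, hA, ← mul_assoc A A, hA, mul_assoc]; simp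

theorem comm_z_right (hB : B * B = 0) : Commute (A * B + B * A) B := by
  rw [add_comm]; exact comm_z_left hB

theorem comm_aeval {z c : R} (h : Commute z c) (p : ℤ[X]) : Commute (aeval z p) c := by
  induction p using Polynomial.induction_on' with
  | add p q hp hq => rw [map_add]; exact hp.add_left hq
  | monomial n a =>
    rw [aeval_monomial]
    exact (Algebra.commute_algebraMap_left _ _).mul_left (h.pow_left n)

/-- The normal form of the elements of the group generated by `1 + A` and `1 + B`. -/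
def NF (ρ : G →* R) (A B : R) (g : G) (p₀ p₁ p₂ p₃ : ℤ[X]) : Prop :=
  ρ g = aeval (A * B + B * A) (1 + X * p₀) + aeval (A * B + B * A) p₁ * A +
      aeval (A * B + B * A) p₂ * B + aeval (A * B + B * A) p₃ * (A * B) ∧
    ρ g⁻¹ = aeval (A * B + B * A) (1 + X * p₀) - aeval (A * B + B * A) p₁ * A -
      aeval (A * B + B * A) p₂ * B + aeval (A * B + B * A) p₃ * (B * A)

theorem nf_one : NF ρ A B 1 0 0 0 0 := by simp [NF]

theorem NF.left (hA : A * A = 0) {g x : G} {p₀ p₁ p₂ p₃ : ℤ[X]} (h : NF ρ A B g p₀ p₁ p₂ p₃)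
    (ε : ℤ) (hx : ρ x = 1 + ε • A) (hx' : ρ x⁻¹ = 1 - ε • A) :
    NF ρ A B (x * g) p₀ (p₁ + ε • (1 + X * p₀)) p₂ (p₃ + ε • p₂) := by
  have c := fun p => (comm_aeval (comm_z_left (B := B) hA) p).eq
  obtain ⟨h1, h2⟩ := h
  unfold NF
  generalize 1 + X * p₀ = p at *
  refine ⟨?_, ?_⟩
  · rw [map_mul, h1, hx]
    simp only [map_add, map_zsmul, add_mul, mul_add, one_mul, smul_mul_assoc, ← mul_assoc, ← c]
    simp only [mul_assoc, hA, zero_mul, mul_zero, smul_zero]
    abel
  · rw [mul_inv_rev, map_mul, h2, hx']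
    simp only [map_add, map_zsmul, add_mul, mul_sub, sub_mul, mul_one, smul_mul_assoc,
      mul_smul_comm, mul_assoc, hA, mul_zero, smul_sub, smul_add, smul_zero]
    abel

theorem NF.right (hB : B * B = 0) {g y : G} {p₀ p₁ p₂ p₃ : ℤ[X]} (h : NF ρ A B g p₀ p₁ p₂ p₃)
    (ε : ℤ) (hy : ρ y = 1 + ε • B) (hy' : ρ y⁻¹ = 1 - ε • B) :
    NF ρ A B (y * g) (p₀ + ε • p₁) p₁ (p₂ + ε • (1 + X * p₀ + X * p₃)) (p₃ - ε • p₁) := by
  have c := fun p => (comm_aeval (comm_z_right (A := A) hB) p).eq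
  have e : ∀ p : ℤ[X], aeval (A * B + B * A) (X * p) = aeval (A * B + B * A) p * (A * B + B * A) :=
    fun p => by rw [mul_comm, map_mul, aeval_X]
  obtain ⟨h1, h2⟩ := h
  have e1 : 1 + X * (p₀ + ε • p₁) = (1 + X * p₀) + ε • (X * p₁) := by
    rw [mul_add, mul_smul_comm, add_assoc]
  unfold NF
  rw [e1]
  generalize 1 + X * p₀ = p at *
  refine ⟨?_, ?_⟩
  · rw [map_mul, h1, hy]
    simp only [map_add, map_sub, map_zsmul, add_mul, sub_mul, mul_add, one_mul, smul_mul_assoc,
      ← mul_assoc, ← c, smul_add, e]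
    simp only [mul_assoc, hB, mul_zero, smul_zero]
    abel
  · rw [mul_inv_rev, map_mul, h2, hy']
    simp only [map_add, map_sub, map_zsmul, add_mul, mul_add, mul_sub, sub_mul, mul_one,
      smul_mul_assoc, mul_smul_comm, mul_assoc, hB, mul_zero, smul_zero, e, smul_add, smul_sub]
    abel

theorem NF.trace {g : G} {p₀ p₁ p₂ p₃ : ℤ[X]} (h : NF ρ A B g p₀ p₁ p₂ p₃) :
    ρ g + ρ g⁻¹ = 2 + (A * B + B * A) * aeval (A * B + B * A) (2 * p₀ + p₃) := by
  rw [h.1, h.2, ← (comm_aeval (Commute.refl _) _).eq]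
  simp only [map_add, map_mul, map_one, aeval_X, add_mul, mul_add, two_mul,
    ← (comm_aeval (Commute.refl (A * B + B * A)) p₀).eq]
  rw [← one_add_one_eq_two]
  abel

/-- The coefficients of the normal form of the identity. -/
theorem NF.coeff (hA : A * A = 0) (hB : B * B = 0) {p₀ p₁ p₂ p₃ : ℤ[X]}
    (h : NF ρ A B 1 p₀ p₁ p₂ p₃) :
    aeval (A * B + B * A) (p₀ * X ^ 3) = 0 ∧ aeval (A * B + B * A) (p₁ * X ^ 2) = 0 ∧
      aeval (A * B + B * A) (p₂ * X ^ 2) = 0 ∧ aeval (A * B + B * A) ((p₀ + p₃) * X ^ 3) = 0 := by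
  have cA := fun p => (comm_aeval (comm_z_left (B := B) hA) p).eq
  have cB := fun p => (comm_aeval (comm_z_right (A := A) hB) p).eq
  set z := A * B + B * A with hz
  have kA : ∀ p : ℤ[X], aeval z p * A = 0 → aeval z (p * X) = 0 := fun p hp => by
    rw [map_mul, aeval_X, hz, mul_add, ← mul_assoc, ← mul_assoc, ← hz, hp, cB, mul_assoc, hp]; simp
  have kB : ∀ p : ℤ[X], aeval z p * B = 0 → aeval z (p * X) = 0 := fun p hp => by
    rw [map_mul, aeval_X, hz, mul_add, ← mul_assoc, ← mul_assoc, ← hz, hp, cA, mul_assoc, hp]; simp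
  have zA : ∀ p : ℤ[X], aeval z (p * X) * A = aeval z p * (A * B * A) := fun p => by
    rw [map_mul, aeval_X, mul_assoc, hz, add_mul, mul_assoc B, hA]; simp
  have zB : ∀ p : ℤ[X], aeval z (p * X) * B = aeval z p * (B * A * B) := fun p => by
    rw [map_mul, aeval_X, mul_assoc, hz, add_mul, mul_assoc A, hB]; simp
  have h1 : aeval z (p₀ * X) + aeval z p₁ * A + aeval z p₂ * B + aeval z p₃ * (A * B) = 0 := by
    have := h.1
    rw [map_one, map_add, map_one, mul_comm X, ← hz] at this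
    linear_combination (norm := noncomm_ring) -this
  have h2 : aeval z (p₀ * X) * A + aeval z p₂ * (A * B) = 0 := by
    have := congrArg (A * ·) h1
    simp only [mul_add, ← mul_assoc, ← cA, mul_zero] at this
    simpa only [mul_assoc, hA, ← mul_assoc A A, zero_mul, mul_zero, add_zero] using this
  have h3 : aeval z (p₀ * X) * B + aeval z p₁ * (B * A) + aeval z p₃ * (B * A * B) = 0 := by
    have := congrArg (B * ·) h1
    simp only [mul_add, ← mul_assoc, ← cB, mul_zero] at this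
    simpa only [mul_assoc, hB, mul_zero, add_zero] using this
  refine ⟨?_, ?_, ?_, ?_⟩
  · rw [show p₀ * X ^ 3 = p₀ * X * X * X by ring]
    refine kA _ ?_
    have := congrArg (· * (B * A)) h2
    simp only [add_mul, mul_assoc, ← mul_assoc B B, hB, zero_mul, mul_zero, add_zero] at this
    rwa [zA, mul_assoc A]
  · rw [show p₁ * X ^ 2 = p₁ * X * X by ring]
    refine kB _ ?_
    have := congrArg (· * B) h3
    simp only [add_mul, mul_assoc, hB, zero_mul, mul_zero, add_zero, zero_add] at this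
    rwa [zB, mul_assoc B]
  · rw [show p₂ * X ^ 2 = p₂ * X * X by ring]
    refine kA _ ?_
    have := congrArg (· * A) h2
    simp only [add_mul, mul_assoc, hA, zero_mul, mul_zero, zero_add] at this
    rwa [zA, mul_assoc A]
  · rw [show (p₀ + p₃) * X ^ 3 = (p₀ + p₃) * X * X * X by ring]
    refine kB _ ?_
    have := congrArg (· * (A * B)) h3
    rw [← zB] at this
    simp only [add_mul, mul_assoc, ← mul_assoc A A, hA, zero_mul, mul_zero, add_zero] at this
    rwa [zB, add_mul, map_add, add_mul, mul_assoc B]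

theorem two_dvd_card {K : Type*} [Field K] (p : ℕ) [Fact p.Prime] [CharP K p] (hp : p ≠ 2)
    (S : Subgroup SL(2, K)) [Finite S] {c : K} (hc : c ≠ 0) (hu : SL2.uu c ∈ S)
    (hl : SL2.ll 1 ∈ S) : 2 ∣ Nat.card S := by
  have : Finite (S.map (slPGL K)) := Finite.of_surjective _ ((slPGL K).subgroupMap_surjective S)
  refine Dvd.dvd.trans ?_ (Subgroup.card_map_dvd S (slPGL K))
  rcases two_transvections_pgl p hp (S.map (slPGL K)) hc ⟨_, hu, slPGL_uu c⟩
    ⟨_, hl, slPGL_ll 1⟩ with ⟨K₀, -, -, hG⟩ | ⟨-, hP⟩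
  · have hle : (pslMap K₀.subtype).range ≤ S.map (slPGL K) :=
      hG.elim (fun e => e.ge) (fun e => (range_pslMap_le_range_pglMap _).trans e.ge)
    have h1 : pm (0 : K) 1 (-1) 0 (by simp) ∈ S.map (slPGL K) := hle
      ⟨(SL2.mk2 0 1 (-1) 0 (by simp) : SL(2, K₀)), by
        rw [pslMap_apply, pslPGL_mk, slPGL_mk2, map_pm]
        exact pm_congr (by simp) (by simp) (by simp) (by simp)⟩
    have h2 : orderOf (⟨_, h1⟩ : S.map (slPGL K)) = 2 := orderOf_eq_prime
      (Subtype.ext (by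
        change pm _ _ _ _ _ ^ 2 = 1
        rw [pow_two, pm_mul, pm_eq_one_iff]; simp))
      (fun e => one_ne_zero (pm_eq_one_iff.1 (congrArg Subtype.val e)).1)
    exact (dvd_of_eq h2.symm).trans (orderOf_dvd_natCard _)
  · rw [hP.1]; norm_num

section Main

variable {x y : G}

theorem inv_of_sq (hA : A * A = 0) (hx : ρ x = 1 + A) :
    ρ x⁻¹ = 1 - A := by
  have : ρ x⁻¹ * (ρ x * (1 - A)) = 1 - A := by rw [← mul_assoc, ← map_mul]; simp
  rwa [hx, add_mul, one_mul, mul_sub, hA, mul_one, sub_zero, sub_add_cancel, mul_one] at this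

theorem exists_nf (hA : A * A = 0) (hB : B * B = 0)
    (hx : ρ x = 1 + A) (hy : ρ y = 1 + B) {g : G} (hg : g ∈ Subgroup.closure {x, y}) :
    ∃ p₀ p₁ p₂ p₃, NF ρ A B g p₀ p₁ p₂ p₃ := by
  have hx' := inv_of_sq hA hx
  have hy' := inv_of_sq hB hy
  induction hg using Subgroup.closure_induction_left with
  | one => exact ⟨_, _, _, _, nf_one⟩
  | mul_left a ha g _ ih =>
    obtain ⟨p₀, p₁, p₂, p₃, h⟩ := ih
    rcases ha with rfl | rfl
    · exact ⟨_, _, _, _, h.left hA 1 (by simpa) (by simpa)⟩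
    · exact ⟨_, _, _, _, h.right hB 1 (by simpa) (by simpa)⟩
  | inv_mul_cancel a ha g _ ih =>
    obtain ⟨p₀, p₁, p₂, p₃, h⟩ := ih
    rcases ha with rfl | rfl
    · exact ⟨_, _, _, _, h.left hA (-1) (by simpa [sub_eq_add_neg] using hx') (by simpa)⟩
    · exact ⟨_, _, _, _, h.right hB (-1) (by simpa [sub_eq_add_neg] using hy') (by simpa)⟩

theorem isPGroup_of_nilpotent (hρ : Function.Injective ρ) {p : ℕ} [hp : Fact p.Prime]
    (hR : (p : R) = 0) (hA : A * A = 0) (hB : B * B = 0) (hx : ρ x = 1 + A) (hy : ρ y = 1 + B)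
    (hz : IsNilpotent (A * B + B * A)) : IsPGroup p (Subgroup.closure {x, y}) := by
  rintro ⟨g, hg⟩
  obtain ⟨p₀, p₁, p₂, p₃, h⟩ := exists_nf hA hB hx hy hg
  have hc : ∀ q : ℤ[X], Commute (aeval (A * B + B * A) q) (ρ g) := fun q => by
    have cA := comm_aeval (comm_z_left (B := B) hA) q
    have cB := comm_aeval (comm_z_right (A := A) hB) q
    have c := fun q' => comm_aeval (comm_aeval (Commute.refl (A * B + B * A)) q').symm q
    rw [h.1]
    exact ((((c _).add_right ((c _).mul_right cA)).add_right ((c _).mul_right cB)).add_right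
      ((c _).mul_right (cA.mul_right cB)))
  have h1 : (ρ g - 1) ^ 2 = (A * B + B * A) * (aeval (A * B + B * A) (2 * p₀ + p₃) * ρ g) := by
    have h2 := congrArg (· * ρ g) h.trace
    simp only [add_mul (ρ g), ← map_mul, inv_mul_cancel, map_one] at h2
    rw [map_mul] at h2
    linear_combination (norm := noncomm_ring) h2
  have h3 : IsNilpotent (ρ g - 1) := by
    refine IsNilpotent.of_pow (m := 2) ?_
    rw [h1]
    refine Commute.isNilpotent_mul_right ?_ hz
    exact (comm_aeval (Commute.refl _) _).symm.mul_right (by simpa using hc X)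
  obtain ⟨n, hn⟩ := h3
  refine ⟨n, Subtype.ext (hρ ?_)⟩
  change ρ (g ^ p ^ n) = ρ 1
  rcases subsingleton_or_nontrivial R with _ | _
  · exact Subsingleton.elim _ _
  have : CharP R p := (CharP.charP_iff_prime_eq_zero hp.out).2 hR
  have h4 := sub_pow_char_pow_of_commute p n (Commute.one_right (ρ g))
  rw [pow_eq_zero_of_le (Nat.lt_pow_self hp.out.one_lt).le hn, one_pow, eq_comm, sub_eq_zero] at h4
  rw [map_pow, h4, map_one]

theorem exists_invol_of_not_nilpotent (hρ : Function.Injective ρ) {p : ℕ} [hp : Fact p.Prime]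
    (hp2 : p ≠ 2) (hR : (p : R) = 0) (hA : A * A = 0) (hB : B * B = 0) (hx : ρ x = 1 + A)
    (hy : ρ y = 1 + B) [Finite (Subgroup.closure {x, y} : Subgroup G)]
    (hz : ¬ IsNilpotent (A * B + B * A)) :
    ∃ i ∈ Subgroup.closure {x, y}, i * i = 1 ∧ i ≠ 1 := by
  have hx' := inv_of_sq hA hx
  have hy' := inv_of_sq hB hy
  let I : Ideal ℤ[X] := RingHom.ker (aeval (A * B + B * A) : ℤ[X] →ₐ[ℤ] R)
  obtain ⟨P, ⟨hIP, hP⟩, hXP⟩ : ∃ P : Ideal ℤ[X], (I ≤ P ∧ P.IsPrime) ∧ X ∉ P := by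
    by_contra h
    push Not at h
    have : X ∈ I.radical := by
      rw [Ideal.radical_eq_sInf]; exact Ideal.mem_sInf.2 fun {P} hP => h P hP
    obtain ⟨n, hn⟩ := this
    exact hz ⟨n, by simpa [I, RingHom.mem_ker] using hn⟩
  let K := FractionRing (ℤ[X] ⧸ P)
  let φ : ℤ[X] →+* K := (algebraMap (ℤ[X] ⧸ P) K).comp (Ideal.Quotient.mk P)
  have hφ : ∀ q, φ q = 0 ↔ q ∈ P := fun q => by
    simp [φ, Ideal.Quotient.eq_zero_iff_mem]
  have hX : φ X ≠ 0 := fun h => hXP ((hφ _).1 h)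
  have hI : ∀ q (n : ℕ), aeval (A * B + B * A) (q * X ^ n) = 0 → φ q = 0 := fun q n h => by
    have := (hφ _).2 (hIP h)
    simpa [hX] using this
  have : CharP K p := (CharP.charP_iff_prime_eq_zero hp.out).2 (by
    simpa using hI p 0 (by simpa using hR))
  let Γ : Subgroup (G × SL(2, K)) := Subgroup.closure {(x, SL2.uu (φ X)), (y, SL2.ll 1)}
  have key : ∀ g ∈ Γ, g.1 ∈ Subgroup.closure {x, y} ∧ ∃ p₀ p₁ p₂ p₃, NF ρ A B g.1 p₀ p₁ p₂ p₃ ∧
      g.2 0 0 = φ (1 + X * p₀ + X * p₃) ∧ g.2 0 1 = φ (X * p₁) ∧ g.2 1 0 = φ p₂ ∧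
        g.2 1 1 = φ (1 + X * p₀) := by
    intro g hg
    have mx : x ∈ Subgroup.closure {x, y} := Subgroup.subset_closure (by simp)
    have my : y ∈ Subgroup.closure {x, y} := Subgroup.subset_closure (by simp)
    induction hg using Subgroup.closure_induction_left with
    | one => exact ⟨one_mem _, _, _, _, _, nf_one, by simp, by simp, by simp, by simp⟩
    | mul_left a ha g _ ih =>
      obtain ⟨h0, p₀, p₁, p₂, p₃, h, h1, h2, h3, h4⟩ := ih
      rcases ha with rfl | rfl
      · refine ⟨mul_mem mx h0, _, _, _, _, h.left hA 1 (by simpa) (by simpa), ?_, ?_, ?_, ?_⟩ <;>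
          simp [SL2.mul_ap, h1, h2, h3, h4] <;> ring
      · refine ⟨mul_mem my h0, _, _, _, _, h.right hB 1 (by simpa) (by simpa), ?_, ?_, ?_, ?_⟩ <;>
          simp [SL2.mul_ap, h1, h2, h3, h4] <;> ring
    | inv_mul_cancel a ha g _ ih =>
      obtain ⟨h0, p₀, p₁, p₂, p₃, h, h1, h2, h3, h4⟩ := ih
      rcases ha with rfl | rfl
      · refine ⟨mul_mem (inv_mem mx) h0, _, _, _, _,
          h.left hA (-1) (by simpa [sub_eq_add_neg] using hx') (by simpa), ?_, ?_, ?_, ?_⟩ <;>
          simp [← SL2.uu_neg, SL2.mul_ap, h1, h2, h3, h4] <;> ring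
      · refine ⟨mul_mem (inv_mem my) h0, _, _, _, _,
          h.right hB (-1) (by simpa [sub_eq_add_neg] using hy') (by simpa), ?_, ?_, ?_, ?_⟩ <;>
          simp [SL2.inv_00, SL2.inv_01, SL2.inv_10, SL2.inv_11, SL2.mul_ap, h1, h2, h3, h4] <;> ring
  let f : Γ →* (Subgroup.closure {x, y} : Subgroup G) :=
    ((MonoidHom.fst _ _).comp Γ.subtype).codRestrict _ fun g => (key g.1 g.2).1
  have hf : Function.Injective f := by
    rw [injective_iff_map_eq_one]
    rintro ⟨⟨g, s⟩, hg⟩ h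
    obtain rfl : g = 1 := congrArg Subtype.val h
    obtain ⟨-, p₀, p₁, p₂, p₃, h0, h1, h2, h3, h4⟩ := key _ hg
    obtain ⟨k0, k1, k2, k3⟩ := h0.coeff hA hB
    have k0 := hI _ _ k0
    have k3 := hI _ _ k3
    rw [map_add, k0, zero_add] at k3
    refine Subtype.ext (Prod.ext rfl (SL2.ext2 ?_ ?_ ?_ ?_))
    · simpa [k0, k3] using h1
    · simpa [hI _ _ k1] using h2
    · simpa [hI _ _ k2] using h3
    · simpa [k0] using h4
  have : Finite Γ := Finite.of_injective f hf
  have : Finite (Γ.map (MonoidHom.snd _ _)) := Finite.of_surjective _ ((MonoidHom.snd _ _).subgroupMap_surjective Γ)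
  have h2 := (two_dvd_card p hp2 (Γ.map (MonoidHom.snd _ _)) hX
    ⟨_, Subgroup.subset_closure (Or.inl rfl), rfl⟩
    ⟨_, Subgroup.subset_closure (Or.inr rfl), rfl⟩).trans (Subgroup.card_map_dvd Γ _)
  obtain ⟨i, hi⟩ := exists_prime_orderOf_dvd_card' 2 h2
  refine ⟨(f i).1, (f i).2, ?_, fun h => ?_⟩
  · have h3 := pow_orderOf_eq_one i
    rw [hi, pow_two] at h3
    rw [← Subgroup.coe_mul, ← map_mul, h3, map_one]; rfl
  · rw [hf (a₁ := i) (a₂ := 1) (Subtype.ext (by simpa using h)), orderOf_one] at hi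
    omega

/-- The central involution of a pair of quadratic elements, one of them rigid. -/
theorem exists_invol (hρ : Function.Injective ρ) {p : ℕ} [hp : Fact p.Prime] (hp2 : p ≠ 2)
    (hR : (p : R) = 0) (hA : A * A = 0) (hB : B * B = 0) (hx : ρ x = 1 + A) (hy : ρ y = 1 + B)
    {X H : Subgroup G} [Finite X] (hxX : x ∈ X) (hyX : y ∈ X) (hxH : x ∈ H) (hyH : y ∉ H)
    (hrig : ∀ k ∈ X, k⁻¹ * x * k ∈ H → k ∈ H) :
    ∃ i ∈ X, i ∈ H ∧ i * i = 1 ∧ i ≠ 1 ∧ ∃ r : R, ρ i = 1 + (A * B + B * A) * r ∧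
      Commute r A ∧ Commute r B := by
  have hle : Subgroup.closure {x, y} ≤ X := by
    rw [Subgroup.closure_le]; rintro _ (rfl | rfl) <;> assumption
  have : Finite (Subgroup.closure {x, y} : Subgroup G) :=
    Finite.of_injective _ (Subgroup.inclusion_injective hle)
  have mx : x ∈ Subgroup.closure {x, y} := Subgroup.subset_closure (by simp)
  have my : y ∈ Subgroup.closure {x, y} := Subgroup.subset_closure (by simp)
  by_cases hz : IsNilpotent (A * B + B * A)
  · have := (isPGroup_of_nilpotent hρ hR hA hB hx hy hz).isNilpotent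
    have h1 := normalizerCondition_iff_only_full_group_self_normalizing.1
      (Group.normalizerCondition_of_isNilpotent (G := (Subgroup.closure {x, y} : Subgroup G)))
      (H.subgroupOf _) (le_antisymm (fun (k : Subgroup.closure {x, y}) hk => hrig k.1 (hle k.2) (by
        have := (Subgroup.mem_normalizer_iff''.1 hk ⟨x, mx⟩).1 hxH
        exact this)) Subgroup.le_normalizer)
    exact absurd (h1 ▸ Subgroup.mem_top _ : (⟨y, my⟩ : Subgroup.closure {x, y}) ∈ H.subgroupOf _)
      hyH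
  obtain ⟨i, hi, h1, h2⟩ := exists_invol_of_not_nilpotent hρ hp2 hR hA hB hx hy hz
  obtain ⟨p₀, p₁, p₂, p₃, h⟩ := exists_nf hA hB hx hy hi
  obtain ⟨m, hm⟩ := hp.out.odd_of_ne_two hp2
  have h3 : ((m + 1 : ℕ) : R) * 2 = 1 := by
    have : ((m + 1 : ℕ) : R) * 2 = p + 1 := by rw [hm]; push_cast; noncomm_ring
    rw [this, hR, zero_add]
  have h4 := h.trace
  rw [inv_eq_of_mul_eq_one_right h1, ← two_mul] at h4
  have h5 : ρ i = 1 + (A * B + B * A) * (((m + 1 : ℕ) : R) * aeval (A * B + B * A) (2 * p₀ + p₃)) := by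
    rw [← one_mul (ρ i), ← h3, mul_assoc, h4, mul_add, h3, ← mul_assoc, ← mul_assoc,
      (Nat.cast_commute _ _).eq]
  have cA := (Nat.cast_commute (m + 1) A).mul_left (comm_aeval (comm_z_left (B := B) hA) (2 * p₀ + p₃))
  have cB := (Nat.cast_commute (m + 1) B).mul_left (comm_aeval (comm_z_right (A := A) hB) (2 * p₀ + p₃))
  refine ⟨i, hle hi, hrig i (hle hi) ?_, h1, h2, _, h5, cA, cB⟩
  have : x * i = i * x := hρ (by
    rw [map_mul, map_mul, hx, h5]
    exact ((Commute.one_right _).add_right (((Commute.one_left _).add_left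
      (comm_z_left hA).symm).mul_right ((Commute.one_left _).add_left cA.symm))).eq)
  rwa [mul_assoc, this, inv_mul_cancel_left]

end Main

end CfsgLib.QuadPair
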